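import Cfsg.Agent.H719.BD.StD
import Cfsg.Agent.H262.ElFourA
import Cfsg.Agent.H152.AbClassical
import Cfsg.Agent.Nodes.WittInst

/-!
# The Steinberg character of `PSp_{2m}(L)` in the principal `p`-block, `p ∣ |L| + 1` (helper719, S4932)
-/

set_option autoImplicit false

open Cfsg Matrix

namespace Cfsg.Agent.H719.BD

open Cfsg.Agent.H152.AbClassical Cfsg.Agent.LieClassical Cfsg.Agent.H262.ElFour Cfsg.Agent.H262.El

section eig

variable {L : Type*} [Field L] [Fintype L]

/-- an element of order `p ∣ |L| + 1` in `SL₂(L)` -/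
theorem exists_el {p : ℕ} [hp : Fact p.Prime] (h : p ∣ Fintype.card L + 1) :
    ∃ A : Matrix.SpecialLinearGroup (Fin 2) L, A ^ p = 1 ∧ A ≠ 1 := by
  classical
  obtain ⟨A, hA⟩ := exists_prime_orderOf_dvd_card' (G := Matrix.SpecialLinearGroup (Fin 2) L) p
    ((Cfsg.Agent.S2430.card_SL (F := L)) ▸ Dvd.dvd.mul_left h _)
  exact ⟨A, hA ▸ pow_orderOf_eq_one A, fun h2 => by
    rw [h2, orderOf_one] at hA
    exact hp.out.one_lt.ne hA⟩

/-- no eigenvectors -/
theorem no_eig {p : ℕ} [hp : Fact p.Prime] (hp2 : p ≠ 2) (h : p ∣ Fintype.card L + 1) (hpL : (p : L) ≠ 0)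
    {A : Matrix.SpecialLinearGroup (Fin 2) L} (hA : A ^ p = 1) (hA1 : A ≠ 1) {a b : L}
    (hab : a * (A.1 1 0 * a + A.1 1 1 * b) = b * (A.1 0 0 * a + A.1 0 1 * b)) : a = 0 ∧ b = 0 := by
  by_contra hcon
  have hv : (![a, b] : Fin 2 → L) ≠ 0 := fun h0 => hcon ⟨congrFun h0 0, congrFun h0 1⟩
  obtain ⟨c, hc⟩ : ∃ c : L, A.1 *ᵥ ![a, b] = c • ![a, b] := by
    by_cases ha : a = 0
    · have hb : b ≠ 0 := fun hb => hcon ⟨ha, hb⟩
      refine ⟨A.1 1 1, ?_⟩
      have h1 : A.1 0 1 = 0 := by
        rw [ha] at hab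
        have h2 : A.1 0 1 * (b * b) = 0 := by linear_combination -hab
        rcases mul_eq_zero.1 h2 with h3 | h3
        · exact h3
        · exact (hb (mul_self_eq_zero.1 h3)).elim
      funext i
      fin_cases i <;> simp [Matrix.mulVec, dotProduct, Fin.sum_univ_two, ha, h1]
    · refine ⟨(A.1 0 0 * a + A.1 0 1 * b) / a, ?_⟩
      funext i
      fin_cases i
      · simp [Matrix.mulVec, dotProduct, Fin.sum_univ_two]
        field_simp
      · simp [Matrix.mulVec, dotProduct, Fin.sum_univ_two]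
        field_simp
        linear_combination hab
  have hpow : ∀ k : ℕ, (A.1 ^ k) *ᵥ ![a, b] = c ^ k • ![a, b] := by
    intro k
    induction k with
    | zero => rw [pow_zero, pow_zero, Matrix.one_mulVec, one_smul]
    | succ k ih => rw [pow_succ, ← Matrix.mulVec_mulVec, hc, Matrix.mulVec_smul, ih, smul_smul, pow_succ']
  have hAp : A.1 ^ p = 1 := by
    rw [← Matrix.SpecialLinearGroup.coe_pow, hA, Matrix.SpecialLinearGroup.coe_one]
  have hcp : c ^ p = 1 := by
    have h1 := hpow p
    rw [hAp, Matrix.one_mulVec] at h1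
    have h2 : (c ^ p - 1) • (![a, b] : Fin 2 → L) = 0 := by rw [sub_smul, one_smul, ← h1, sub_self]
    rcases smul_eq_zero.1 h2 with h3 | h3
    · exact sub_eq_zero.1 h3
    · exact (hv h3).elim
  have hc0 : c ≠ 0 := by
    rintro rfl
    rw [zero_pow hp.out.ne_zero] at hcp
    exact zero_ne_one hcp
  have hc1 : c = 1 := by
    have h1 := FiniteField.pow_card_sub_one_eq_one c hc0
    have h2 := Nat.dvd_gcd (orderOf_dvd_of_pow_eq_one hcp) (orderOf_dvd_of_pow_eq_one h1)
    have h3 : Nat.gcd p (Fintype.card L - 1) = 1 := by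
      rw [← Nat.coprime_iff_gcd_eq_one, Nat.Prime.coprime_iff_not_dvd hp.out]
      intro h4
      have h5 : 1 < Fintype.card L := Fintype.one_lt_card
      have h6 : p ∣ 2 := by
        have h7 := Nat.dvd_sub h h4
        rwa [show Fintype.card L + 1 - (Fintype.card L - 1) = 2 by omega] at h7
      exact hp2 ((Nat.prime_dvd_prime_iff_eq hp.out Nat.prime_two).1 h6)
    rw [h3] at h2
    exact orderOf_eq_one_iff.1 (Nat.dvd_one.1 h2)
  have hdet := sl2_no_fix (M := (A : Matrix (Fin 2) (Fin 2) L)) A.2 hAp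
    (fun h => hA1 (Subtype.ext (h.trans Matrix.SpecialLinearGroup.coe_one.symm))) hpL
  apply hdet
  rw [← Matrix.exists_mulVec_eq_zero_iff]
  refine ⟨_, hv, ?_⟩
  rw [Matrix.sub_mulVec, Matrix.one_mulVec, hc, hc1, one_smul, sub_self]

end eig

variable {L : Type*} [Field L] [Fintype L]

/-- **The Steinberg character of `PSp_{2m}(L)`.** -/
theorem st_psp {S : Type*} [Group S] [Finite S] {p : ℕ} [hp : Fact p.Prime] (hp2 : p ≠ 2)
    (h : p ∣ Fintype.card L + 1) {m : ℕ} (hm : 1 ≤ m) (e : S ≃* PSp m L) :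
    ∃ χ : IrrCharacter S, (∀ M' : Ideal AlgInt, IsPModular p M' → χ ∈ principalBlock M' S) ∧
      Fintype.card L ^ (m ^ 2) ≤ charDegree (χ : S → ℂ) := by
  classical
  have hr : Fact (ringChar L).Prime := ⟨CharP.char_is_prime L _⟩
  have hrL : ((ringChar L : ℕ) : L) = 0 := CharP.cast_eq_zero L _
  obtain ⟨k, -, hk⟩ := FiniteField.card L (ringChar L)
  have hpr : p ≠ ringChar L := by
    rintro h1
    have h2 : ringChar L ∣ Fintype.card L := by
      rw [hk]
      exact dvd_pow_self _ k.pos.ne'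
    rw [← h1] at h2
    exact hp.out.one_lt.ne' (Nat.dvd_one.1 ((Nat.dvd_add_right h2).1 h))
  have hpL : (p : L) ≠ 0 := by
    intro h1
    have h2 : ringChar L ∣ p := ringChar.dvd h1
    exact hpr ((Nat.prime_dvd_prime_iff_eq hr.out hp.out).1 h2).symm
  obtain ⟨A, hA, hA1⟩ := exists_el (L := L) h
  let π : Matrix.symplecticGroup (Fin m) L →* S := e.symm.toMonoidHom.comp (QuotientGroup.mk' _)
  have hfin : Finite (Matrix.symplecticGroup (Fin m) L) := inferInstance
  have hπk : π.ker ≤ Subgroup.center _ := by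
    intro x hx
    rw [MonoidHom.mem_ker] at hx
    have h1 : QuotientGroup.mk' (Subgroup.center (Matrix.symplecticGroup (Fin m) L)) x = 1 :=
      e.symm.injective (hx.trans (map_one _).symm)
    exact (QuotientGroup.eq_one_iff x).1 h1
  have hS : Nodes.RGDChev.HasRGD (ringChar L) S :=
    (Cfsg.Agent.Nodes.WittInst.hasRGD_PSp (F := L) hm).of_equiv e.symm
  let Q : Subgroup (Fin m → Matrix.SpecialLinearGroup (Fin 2) L) := Subgroup.pi Set.univ fun _ => Subgroup.zpowers A
  have hQ : IsPGroup p Q := by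
    intro x
    refine ⟨1, Subtype.ext ?_⟩
    funext i
    obtain ⟨j, hj⟩ := (Subgroup.mem_pi _).1 x.2 i (Set.mem_univ i)
    simp only [] at hj
    show ((x : Fin m → Matrix.SpecialLinearGroup (Fin 2) L) ^ p ^ 1) i = 1
    rw [Pi.pow_apply, ← hj, pow_one, ← zpow_natCast, ← _root_.zpow_mul, mul_comm, _root_.zpow_mul, zpow_natCast, hA,
      _root_.one_zpow]
  obtain ⟨χ, h1, h2⟩ := st_of_form hS hpr π (e.symm.surjective.comp (QuotientGroup.mk'_surjective _)) hπk
    hrL (rhoS m L) rhoS_injective (fun u => SympCount.stdForm m L u) (fun g u v => rhoS_pres g u v) (D := Q.map (tHom m))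
    (hQ.map _) (by
      intro U hU hinv
      obtain ⟨u, hu, hu0⟩ := (Submodule.ne_bot_iff U).1 hU
      obtain ⟨i, hi⟩ : ∃ i : Fin m, ¬ (u (Sum.inl i) = 0 ∧ u (Sum.inr i) = 0) := by
        by_contra hcon
        push Not at hcon
        apply hu0
        funext x
        rcases x with x | x
        · exact (hcon x).1
        · exact (hcon x).2
      let a : Fin m → Matrix.SpecialLinearGroup (Fin 2) L := Pi.mulSingle i A
      have ha : a ∈ Q := by
        refine (Subgroup.mem_pi _).2 fun j _ => ?_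
        by_cases hj : j = i
        · subst hj
          simp only [a, Pi.mulSingle_eq_same]
          exact Subgroup.mem_zpowers A
        · simp only [a, Pi.mulSingle_eq_of_ne hj]
          exact one_mem _
      refine ⟨u, hu, rhoS m L (tHom m a) u, hinv _ (Subgroup.mem_map_of_mem _ ha) u hu, ?_⟩
      have hact : rhoS m L (tHom m a) u = tm (fun i => (a i : Matrix (Fin 2) (Fin 2) L)) *ᵥ u := rfl
      rw [hact, SympCount.stdForm_apply]
      intro h0
      apply hi
      refine no_eig hp2 h hpL hA hA1 ?_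
      rw [Finset.sum_eq_single i] at h0
      · rw [tm_inl, tm_inr] at h0
        simp only [a, Pi.mulSingle_eq_same] at h0
        linear_combination -h0
      · intro j _ hj
        rw [tm_inl, tm_inr]
        simp only [a, Pi.mulSingle_eq_of_ne hj, Matrix.SpecialLinearGroup.coe_one]
        simp
        ring
      · intro h3
        exact absurd (Finset.mem_univ _) h3)
  refine ⟨χ, h1, ?_⟩
  rw [h2]
  have hcS : Nat.card S * Nat.card (Subgroup.center (Matrix.symplecticGroup (Fin m) L)) =
      Nat.card (Matrix.symplecticGroup (Fin m) L) := by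
    rw [Subgroup.card_eq_card_quotient_mul_card_subgroup (Subgroup.center (Matrix.symplecticGroup (Fin m) L)),
      Nat.card_congr e.toEquiv]
  have hcop : Nat.Coprime (Fintype.card L ^ (m ^ 2)) (Nat.card (Subgroup.center (Matrix.symplecticGroup (Fin m) L))) := by
    rw [SympCenter.card_center (by omega)]
    apply Nat.Coprime.pow_left
    apply Nat.Coprime.coprime_dvd_right (Nat.gcd_dvd_right _ _)
    have h5 : 1 < Fintype.card L := Fintype.one_lt_card
    have := Nat.coprime_self_sub_right (m := 1) (n := Fintype.card L) (by omega)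
    rw [this]
    exact Nat.coprime_one_right _
  have hdvd : Fintype.card L ^ (m ^ 2) ∣ Nat.card S := by
    refine hcop.dvd_of_dvd_mul_right ?_
    rw [hcS, SympCount.card_symplecticGroup]
    exact Dvd.intro _ rfl
  have h6 : (Fintype.card L ^ (m ^ 2)) = ringChar L ^ ((k : ℕ) * m ^ 2) := by
    rw [hk, ← pow_mul]
  rw [h6]
  refine Nat.pow_le_pow_right hr.out.pos ?_
  rw [h6] at hdvd
  exact (Nat.Prime.pow_dvd_iff_le_factorization hr.out Nat.card_pos.ne').1 hdvd

end Cfsg.Agent.H719.BD
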