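import Cfsg.Agent.H674.BD.OmNum
import Cfsg.Agent.S0280
import Cfsg.Agent.S0815

/-!
# Bounds for `PSU_n(q)`: the `p`-part of the order, the outer automorphisms (helper719, S4932)
-/

set_option autoImplicit false

namespace Cfsg.Agent.H719.BD

open Cfsg Cfsg.Agent.H749 Cfsg.Agent.H674.BD.OmNum

variable {p : ℕ} [hp : Fact p.Prime] {F : Type*} [Field F] [Fintype F] {q n d : ℕ}

theorem two_le_q (hF : Fintype.card F = q ^ 2) : 2 ≤ q := by
  have h1 : 1 < Fintype.card F := Fintype.one_lt_card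
  rw [hF] at h1
  by_contra hcon
  have : q = 0 ∨ q = 1 := by omega
  rcases this with rfl | rfl <;> simp at h1

/-- the `p`-part of the order -/
theorem fac_psu (hp2 : p ≠ 2) (hF : Fintype.card F = q ^ 2) (hpq : ¬ p ∣ q) (hn : 2 ≤ n)
    (hd : orderOf (-(q : ZMod p)) = d) :
    (Nat.card (PSU n F q)).factorization p + (Nat.gcd n (q + 1)).factorization p + (q + 1).factorization p =
      (n / d) * vp p ((-(q : ℤ)) ^ d - 1) + (n / d).factorial.factorization p := by
  have hq := two_le_q hF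
  have hfin : Finite (PSU n F q) := Quotient.finite _
  have h0 := S0280.result hF n hn
  have hP : ((∏ i ∈ Finset.range n, (if Even i then q ^ (i + 1) + 1 else q ^ (i + 1) - 1) : ℕ) : ℤ).natAbs =
      (∏ i ∈ Finset.range n, ((-(q : ℤ)) ^ (i + 1) - 1)).natAbs := by
    rw [Nat.cast_prod, ← Int.natAbsHom_apply, ← Int.natAbsHom_apply, map_prod, map_prod]
    refine Finset.prod_congr rfl fun i _ => ?_
    rw [Int.natAbsHom_apply, Int.natAbsHom_apply]
    split_ifs with h
    · rw [neg_pow, Odd.neg_one_pow (h.add_one)]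
      rw [← Int.natAbs_neg]
      congr 1
      push_cast
      ring
    · have h1 : Even (i + 1) := Nat.even_add_one.2 h
      rw [neg_pow, Even.neg_one_pow h1, Nat.cast_sub (Nat.one_le_pow _ _ (by omega))]
      push_cast
      ring_nf
  have hne : ∏ i ∈ Finset.range n, (if Even i then q ^ (i + 1) + 1 else q ^ (i + 1) - 1) ≠ 0 := by
    refine Finset.prod_ne_zero_iff.2 fun i _ => ?_
    split_ifs
    · omega
    · have : 1 < q ^ (i + 1) := Nat.one_lt_pow (by omega) (by omega)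
      omega
  have hx : ∀ i : ℕ, i ≠ 0 → (-(q : ℤ)) ^ i ≠ 1 := by
    intro i hi h
    have h1 := congrArg Int.natAbs h
    rw [Int.natAbs_pow, Int.natAbs_neg, Int.natAbs_natCast, Int.natAbs_one] at h1
    have : 1 < q ^ i := Nat.one_lt_pow hi (by omega)
    omega
  have h2 := vp_prod (p := p) hp2 (x := -(q : ℤ)) (e := d) (by push_cast; exact hd) hx n
  rw [← h2]
  have h3 : vp p (∏ i ∈ Finset.range n, ((-(q : ℤ)) ^ (i + 1) - 1)) =
      (∏ i ∈ Finset.range n, (if Even i then q ^ (i + 1) + 1 else q ^ (i + 1) - 1)).factorization p := by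
    rw [← vp_natCast]
    unfold vp
    rw [hP]
  rw [h3]
  have h4 := congrArg (fun x : ℕ => x.factorization p) h0
  have hg : Nat.gcd n (q + 1) ≠ 0 := fun h => absurd (Nat.gcd_eq_zero_iff.1 h).1 (by omega)
  beta_reduce at h4
  rw [Nat.factorization_mul hg (mul_ne_zero (by omega) Nat.card_pos.ne'), Finsupp.add_apply,
    Nat.factorization_mul (by omega) Nat.card_pos.ne', Finsupp.add_apply,
    Nat.factorization_mul (pow_ne_zero _ (by omega)) hne, Finsupp.add_apply, Nat.factorization_pow,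
    Finsupp.smul_apply, Nat.factorization_eq_zero_of_not_dvd hpq, smul_zero, zero_add] at h4
  omega

/-- `d ≥ 2` -/
theorem psu_p (hp2 : p ≠ 2) (hF : Fintype.card F = q ^ 2) (hpq : ¬ p ∣ q) (hn : 2 ≤ n)
    (hd : orderOf (-(q : ZMod p)) = d) {A : ℕ} (hA : p ^ vp p ((-(q : ℤ)) ^ d - 1) ≤ A) :
    (ordProj[p] (Nat.card (PSU n F q))) ^ 2 ≤ (3 * A ^ 2) ^ (n / d) := by
  have h1 := fac_psu hp2 hF hpq hn hd
  set v := vp p ((-(q : ℤ)) ^ d - 1)
  set w := n / d
  have h2 : (Nat.card (PSU n F q)).factorization p ≤ w * v + w.factorial.factorization p := by omega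
  calc (p ^ (Nat.card (PSU n F q)).factorization p) ^ 2 ≤ (p ^ (w * v + w.factorial.factorization p)) ^ 2 :=
        Nat.pow_le_pow_left (Nat.pow_le_pow_right hp.out.pos h2) 2
    _ = ((p ^ v) ^ 2) ^ w * (p ^ w.factorial.factorization p) ^ 2 := by
        rw [pow_add, mul_pow]
        congr 1
        rw [← pow_mul, ← pow_mul, ← pow_mul]
        congr 1
        ring
    _ ≤ (A ^ 2) ^ w * 3 ^ w := Nat.mul_le_mul
        (Nat.pow_le_pow_left (Nat.pow_le_pow_left hA 2) w) (sq_fact_le hp2 w)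
    _ = (3 * A ^ 2) ^ w := by rw [← mul_pow, mul_comm]

theorem vp_even (hp2 : p ≠ 2) (hq : 2 ≤ q) {f : ℕ} (hf : 0 < f) :
    p ^ vp p ((-(q : ℤ)) ^ (2 * f) - 1) ≤ q ^ f + 1 := by
  have h1 := pow_vp_le (p := p) hp2 hq hf
  rwa [← pow_mul, ← Even.neg_pow (even_two_mul f)] at h1

omit hp in
theorem vp_odd (hd : Odd d) : p ^ vp p ((-(q : ℤ)) ^ d - 1) ≤ q ^ d + 1 := by
  have h1 : (-(q : ℤ)) ^ d - 1 = -((q ^ d + 1 : ℕ) : ℤ) := by
    rw [neg_pow, Odd.neg_one_pow hd]
    push_cast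
    ring
  rw [h1, vp_neg, vp_natCast]
  exact Nat.le_of_dvd (by omega) (Nat.ordProj_dvd _ _)

/-- `p ^ (2 v_p(w!)) ≤ 3 ^ (w - 1)` -/
theorem sq_fact_le' (hp2 : p ≠ 2) {w : ℕ} (hw : 1 ≤ w) : (p ^ w.factorial.factorization p) ^ 2 ≤ 3 ^ (w - 1) := by
  have hp3 : 3 ≤ p := by
    have := hp.out.two_le
    omega
  have h1 : (p - 1) * w.factorial.factorization p ≤ w - 1 := by
    have h2 := sub_one_mul_padicValNat_factorial (p := p) w
    rw [Nat.factorization_def _ hp.out, h2]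
    have h3 : 1 ≤ (p.digits w).sum := by
      by_contra hcon
      have h4 : (p.digits w).sum = 0 := by omega
      have h5 : w = 0 := by
        rw [← Nat.ofDigits_digits p w]
        have h6 : ∀ x ∈ p.digits w, x = 0 := fun x hx => by
          have := List.single_le_sum (fun y _ => Nat.zero_le y) x hx
          omega
        have h7 := List.eq_replicate_of_mem h6
        rw [h7]
        exact Nat.ofDigits_replicate_zero
      omega
    omega
  have h3 : p ^ 2 ≤ 3 ^ (p - 1) := by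
    obtain ⟨k, rfl⟩ : ∃ k, p = k + 3 := ⟨p - 3, by omega⟩
    show (k + 3) ^ 2 ≤ 3 ^ (k + 2)
    clear h1 hp hp2 hp3
    induction k with
    | zero => norm_num
    | succ k ih =>
      have h4 : 3 ^ (k + 1 + 2) = 3 * 3 ^ (k + 2) := by ring
      rw [h4]
      calc (k + 1 + 3) ^ 2 ≤ 3 * (k + 3) ^ 2 := by nlinarith [Nat.zero_le (k * k)]
        _ ≤ 3 * 3 ^ (k + 2) := Nat.mul_le_mul_left _ ih
  calc (p ^ w.factorial.factorization p) ^ 2 = (p ^ 2) ^ w.factorial.factorization p := by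
        rw [← pow_mul, ← pow_mul, mul_comm]
    _ ≤ (3 ^ (p - 1)) ^ w.factorial.factorization p := Nat.pow_le_pow_left h3 _
    _ = 3 ^ ((p - 1) * w.factorial.factorization p) := by rw [← pow_mul]
    _ ≤ 3 ^ (w - 1) := Nat.pow_le_pow_right (by norm_num) h1

/-- `d = 1` -/
theorem psu_p_one (hp2 : p ≠ 2) (hF : Fintype.card F = q ^ 2) (hn : 2 ≤ n) (hd : p ∣ q + 1) :
    (ordProj[p] (Nat.gcd n (q + 1)) * ordProj[p] (Nat.card (PSU n F q))) ^ 2 ≤ (3 * (q + 1) ^ 2) ^ (n - 1) := by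
  have hpq : ¬ p ∣ q := fun h => hp.out.one_lt.ne' (Nat.dvd_one.1 ((Nat.dvd_add_right h).1 hd))
  have h0 : orderOf (-(q : ZMod p)) = 1 := by
    rw [orderOf_eq_one_iff, neg_eq_iff_add_eq_zero]
    have h1 := (ZMod.natCast_eq_zero_iff (q + 1) p).2 hd
    push_cast at h1
    exact h1
  have h1 := fac_psu hp2 hF hpq hn h0
  rw [pow_one, Nat.div_one] at h1
  have h2 : vp p (-(q : ℤ) - 1) = (q + 1).factorization p := by
    have h3 : (-(q : ℤ) - 1) = -((q + 1 : ℕ) : ℤ) := by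
      push_cast
      ring
    rw [h3, vp_neg, vp_natCast]
  rw [h2] at h1
  set v := (q + 1).factorization p
  obtain ⟨k, rfl⟩ : ∃ k, n = k + 1 := ⟨n - 1, by omega⟩
  have h3 : (Nat.gcd (k + 1) (q + 1)).factorization p + (Nat.card (PSU (k + 1) F q)).factorization p =
      k * v + (k + 1).factorial.factorization p := by
    have : (k + 1) * v = k * v + v := by ring
    omega
  rw [← pow_add, h3, Nat.add_sub_cancel]
  have hA : p ^ v ≤ q + 1 := Nat.le_of_dvd (by omega) (Nat.ordProj_dvd _ _)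
  calc (p ^ (k * v + (k + 1).factorial.factorization p)) ^ 2 =
        ((p ^ v) ^ 2) ^ k * (p ^ (k + 1).factorial.factorization p) ^ 2 := by
        rw [pow_add, mul_pow]
        congr 1
        rw [← pow_mul, ← pow_mul, ← pow_mul]
        congr 1
        ring
    _ ≤ ((q + 1) ^ 2) ^ k * 3 ^ k := Nat.mul_le_mul
        (Nat.pow_le_pow_left (Nat.pow_le_pow_left hA 2) k) (by
          have := sq_fact_le' (p := p) hp2 (w := k + 1) (by omega)
          rwa [Nat.add_sub_cancel] at this)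
    _ = (3 * (q + 1) ^ 2) ^ k := by rw [← mul_pow, mul_comm]

/-- the outer automorphism group -/
theorem out_psu (hF : Fintype.card F = q ^ 2) (hn : 4 ≤ n) [IsSimpleGroup (PSU n F q)]
    (hna : ¬ IsMulCommutative (PSU n F q)) :
    ∃ f : ℕ, 1 ≤ f ∧ 2 ^ f ≤ q ∧ (q = 5 → f = 1) ∧ (q = 2 → f = 1) ∧
      Nat.card (Cfsg.Out (PSU n F q)) = Nat.gcd n (q + 1) * (2 * f) := by
  have hfin : Finite (PSU n F q) := Quotient.finite _
  have hq := two_le_q hF
  obtain ⟨r, hchar⟩ := CharP.exists F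
  obtain ⟨k, hr, hk⟩ := FiniteField.card F r
  have hrf : Fact r.Prime := ⟨hr⟩
  have hdvd : q ∣ r ^ (k : ℕ) := by
    rw [← hk, hF]
    exact dvd_pow_self q two_ne_zero
  obtain ⟨f, -, hf⟩ := (Nat.dvd_prime_pow hr).1 hdvd
  have hf1 : 1 ≤ f := by
    rcases Nat.eq_zero_or_pos f with h0 | h0
    · rw [h0, pow_zero] at hf
      omega
    · exact h0
  have h2f : 2 ^ f ≤ q := hf ▸ Nat.pow_le_pow_left hr.two_le f
  have hpr : ∀ s : ℕ, s.Prime → q = s → f = 1 := by
    intro s hs hqs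
    have h1 : r ^ f = s ^ 1 := by rw [← hf, hqs, pow_one]
    have h3 : r ∣ s := by
      have : r ∣ s ^ 1 := h1 ▸ dvd_pow_self r (by omega)
      rwa [pow_one] at this
    have h4 : r = s := (Nat.prime_dvd_prime_iff_eq hr hs).1 h3
    rw [h4] at h1
    exact Nat.pow_right_injective hs.two_le h1
  refine ⟨f, hf1, h2f, hpr 5 Nat.prime_five, hpr 2 Nat.prime_two, ?_⟩
  exact card_out_eq hna (S0815.result r f hf1 hf hF n (by omega) (by omega))

theorem two_mul_le_two_pow {f : ℕ} (hf : 1 ≤ f) : 2 * f ≤ 2 ^ f := by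
  induction f, hf using Nat.le_induction with
  | base => norm_num
  | succ k hk ih =>
    rw [pow_succ]
    omega

theorem out_psu_le (hF : Fintype.card F = q ^ 2) (hn : 4 ≤ n) [IsSimpleGroup (PSU n F q)]
    (hna : ¬ IsMulCommutative (PSU n F q)) : Nat.card (Cfsg.Out (PSU n F q)) ≤ q ^ 3 := by
  have hq := two_le_q hF
  obtain ⟨f, hf1, hf2, -, -, h⟩ := out_psu hF hn hna
  rw [h]
  have h1 : Nat.gcd n (q + 1) ≤ q + 1 := Nat.gcd_le_right _ (by omega)
  have h2 : 2 * f ≤ q := (two_mul_le_two_pow hf1).trans hf2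
  calc Nat.gcd n (q + 1) * (2 * f) ≤ (q + 1) * q := Nat.mul_le_mul h1 h2
    _ ≤ q ^ 3 := by nlinarith [Nat.mul_le_mul hq hq]

end Cfsg.Agent.H719.BD
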